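import Cfsg.Agent.OddHalf.NI3.Amal
import Cfsg.Agent.OddHalf.NI.PumpW
import Cfsg.Agent.OddHalf.NI3.Props

-- merged: Cfsg.Agent.OddHalf.NI3.Glue
section

/-!
# THEOREM X(3), part 2: the glueing

* `third_uniq` : the uniqueness of the third member;
* `side` : the predicate `S7` for a component `L` of `C(u)` containing `Ju`, `Jv`, `Jw`;
* `glue_false` : `C(u) ≅ H k`, `C(v) ≅ H l` is impossible.
-/

set_option autoImplicit false
set_option linter.style.haveILetI false
set_option linter.unusedSectionVars false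

namespace Cfsg.Agent.OddHalf.NI3

open Subgroup Cfsg Cfsg.Agent.Cit Cfsg.Agent.Cit.SolvTwo Cfsg.Agent.SignalizersComponents

universe u

variable {S7 : ∀ (N : Type u) [Group N], N → N → Subgroup N → Subgroup N → Subgroup N → Prop}

theorem core_eq_bot_of_quasi {N : Type*} [Group N] [Finite N] (hN : IsQuasisimple N) (hc : IsPGroup 2 (center N)) {t : N}
    (ht : orderOf t = 2) : pPrimeCore 2 N = ⊥ := by
  have hn : (pPrimeCore 2 N).Normal := Lib.Cores.pPrimeCore_normal 2
  have hodd : ¬ 2 ∣ Nat.card (pPrimeCore 2 N) := Cit.not_two_dvd_oddCore N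
  rcases LayerBasic.quasisimple_normal hN _ hn with h1 | h1
  · exfalso
    apply hodd
    rw [h1, Subgroup.card_top, ← ht]
    exact orderOf_dvd_natCard t
  · haveI : Fact (Nat.Prime 2) := ⟨Nat.prime_two⟩
    obtain ⟨k, hk⟩ := IsPGroup.iff_card.1 (hc.to_le h1)
    rcases Nat.eq_zero_or_pos k with h0 | h0
    · rw [h0, pow_zero] at hk
      exact Subgroup.eq_bot_of_card_eq _ hk
    · exact absurd (by rw [hk]; exact dvd_pow_self 2 (by omega)) hodd

/-- **uniqueness of the third member** -/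
theorem third_uniq (hT : TStmt.{u}) (hM : AutM3 S7) {N : Type u} [Group N] [Finite N] (hO : pPrimeCore 2 N = ⊥)
    {x z : N} {J' J T S : Subgroup N} (h' : Cl x J') (h : IsPr J z) (hs : Sn J (centralizer ({x} : Set N)))
    (hz : z ∈ center N) (hxz : x ≠ z) (hT1 : IsPr T (x * z)) (hT2 : Sn T (centralizer ({x} : Set N)))
    (hS1 : IsPr S (x * z)) (hS2 : Sn S (centralizer ({x} : Set N))) (h7 : S7 N z x J J' T) : S = T := by
  set K := centralizer ({x} : Set N) with hK
  have hOK : pPrimeCore 2 ↥K = ⊥ := core_cent_eq_bot hT hO h'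
  have hx1 : x ≠ 1 := by
    intro e; have := h'.pr.ord; rw [e, orderOf_one] at this; omega
  have hz1 : z ≠ 1 := by
    intro e; have := h.ord; rw [e, orderOf_one] at this; omega
  -- centre of `K`
  have cx : ∀ c : K, c * ⟨x, h'.sn.1 h'.pr.mem⟩ = ⟨x, h'.sn.1 h'.pr.mem⟩ * c := fun c =>
    Subtype.ext (mem_centralizer_singleton_iff.1 c.2)
  have cz : ∀ c : K, c * ⟨z, hs.1 h.mem⟩ = ⟨z, hs.1 h.mem⟩ * c := fun c =>
    Subtype.ext (mem_center_iff.1 hz c)
  have cxz : ∀ w : K, (w : N) = x * z → ∀ c : K, c * w = w * c := fun w hw c => by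
    apply Subtype.ext
    show (c : N) * w = w * c
    rw [hw]
    calc (c : N) * (x * z) = (c * x) * z := by group
      _ = x * (c * z) := by rw [mem_centralizer_singleton_iff.1 c.2]; group
      _ = x * z * c := by rw [mem_center_iff.1 hz c]; group
  have key : ∀ {A B : Subgroup N} {a b : N} (pA : IsPr A a) (pB : IsPr B b) (hA : Sn A K) (hB : Sn B K), a ≠ b →
      (∀ c : K, c * ⟨a, hA.1 pA.mem⟩ = ⟨a, hA.1 pA.mem⟩ * c) →
      (∀ c : K, c * ⟨b, hB.1 pB.mem⟩ = ⟨b, hB.1 pB.mem⟩ * c) →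
      ∀ s ∈ A, ∀ t ∈ B, s * t = t * s := by
    intro A B a b pA pB hA hB hab ca cb s hs t ht
    have h1 := cm_of_ne hOK ca cb (fun e => hab (congrArg Subtype.val e)) (pA.subgroupOf hA.1) (pB.subgroupOf hB.1)
      hA.2 hB.2 ⟨s, hA.1 hs⟩ hs ⟨t, hB.1 ht⟩ ht
    exact congrArg Subtype.val h1
  have n1 : x * z ≠ x := fun e => hz1 (mul_eq_left.1 e)
  have n2 : x * z ≠ z := fun e => hx1 (mul_eq_right.1 e)
  have a1 := key hS1 h'.pr hS2 h'.sn n1 (cxz _ rfl) cx
  have a2 := key hS1 h hS2 hs n2 (cxz _ rfl) cz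
  by_contra hne
  have a3 : ∀ s ∈ S, ∀ t ∈ T, s * t = t * s := by
    have e1 := (hS1.subgroupOf hS2.1).isSl
    have e2 := (hT1.subgroupOf hT2.1).isSl
    rcases SLThree.eq_or_cm hOK (cxz _ rfl) e1 e2 hS2.2 hT2.2 with h8 | h8
    · exfalso
      apply hne
      have h9 := congrArg (Subgroup.map K.subtype) h8
      rwa [map_subgroupOf_eq_of_le hS2.1, map_subgroupOf_eq_of_le hT2.1] at h9
    · intro s hs t ht
      exact congrArg Subtype.val (h8 ⟨s, hS2.1 hs⟩ hs ⟨t, hT2.1 ht⟩ ht)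
  obtain ⟨a, ha, b, hb, haz, hbz, hab⟩ := hS1.t3.ex4
  exact hab (comm_of_s7 hM h7 (a := a) (b := b) (a2 a ha) (a1 a ha) (a3 a ha)
    (mem_centralizer_singleton_iff.1 (hS2.1 hb)))

/-- **one side** of Solomon's configuration -/
theorem side (hT : TStmt.{u}) (hB : F23b S7) (hM : AutM3 S7) {X : Type u} [Group X] [Finite X] {u v : X}
    {L Ju Jv Jw : Subgroup X} (hL : D3.Comp u L) (h2 : IsPGroup 2 ↥(center ↥L)) (pu : IsPr Ju u) (pv : IsPr Jv v)
    (pw : IsPr Jw (u * v)) (su : Sn Ju (centralizer ({u} : Set X) ⊓ centralizer ({v} : Set X)))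
    (sv : Sn Jv (centralizer ({u} : Set X) ⊓ centralizer ({v} : Set X)))
    (sw : Sn Jw (centralizer ({u} : Set X) ⊓ centralizer ({v} : Set X))) (lu : Ju ≤ L) (lv : Jv ≤ L) (lw : Jw ≤ L)
    (huv : u ≠ v) (hc : ∀ a ∈ Ju, ∀ b ∈ Jv, a * b = b * a) (hu : u ∈ L) (hv : v ∈ L) :
    S7 ↥L ⟨u, hu⟩ ⟨v, hv⟩ (Ju.subgroupOf L) (Jv.subgroupOf L) (Jw.subgroupOf L) := by
  have hcomm : u * v = v * u := hc u pu.mem v pv.mem
  have hOL : pPrimeCore 2 ↥L = ⊥ := core_eq_bot_of_quasi hL.quasi h2 (t := ⟨u, hu⟩)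
    (by rw [Subgroup.orderOf_mk]; exact pu.ord)
  have key : ∀ {S : Subgroup X}, Sn S (centralizer ({u} : Set X) ⊓ centralizer ({v} : Set X)) → S ≤ L →
      Sn (S.subgroupOf L) (centralizer ({(⟨v, hv⟩ : L)} : Set L)) := by
    intro S hS hSL
    rw [← centralizer_subgroupOf hv]
    have h1 : Sn S (L ⊓ centralizer ({v} : Set X)) :=
      hS.restrict (inf_le_inf_right _ hL.le) (le_inf hSL (hS.1.trans inf_le_right))
    have h2 := h1.comap L.subtype
    have h3 : (L ⊓ centralizer ({v} : Set X)).comap L.subtype = (centralizer ({v} : Set X)).subgroupOf L := by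
      ext y
      simp only [mem_comap, mem_inf, mem_subgroupOf]
      exact ⟨fun h => h.2, fun h => ⟨y.2, h⟩⟩
    rwa [h3] at h2
  have hz : (⟨u, hu⟩ : L) ∈ center L := by
    rw [mem_center_iff]
    intro g
    exact Subtype.ext (mem_centralizer_singleton_iff.1 (hL.le g.2))
  have hcl : Cl (⟨v, hv⟩ : L) (Jv.subgroupOf L) := ⟨pv.subgroupOf lv, key sv lv⟩
  have hne : (⟨v, hv⟩ : L) ≠ ⟨u, hu⟩ := fun e => huv (congrArg Subtype.val e).symm
  have hcen : Ju.subgroupOf L ≤ centralizer (Jv.subgroupOf L : Set L) := by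
    intro a ha
    rw [mem_centralizer_iff]
    intro b hb
    exact Subtype.ext (hc a ha b hb).symm
  obtain ⟨T, t1, t2, h7⟩ := hB ↥L hL.quasi h2 ⟨v, hv⟩ ⟨u, hu⟩ (Jv.subgroupOf L) (Ju.subgroupOf L) hcl
    (pu.subgroupOf lu) (key su lu) hcen hz
  have pw' : IsPr (Jw.subgroupOf L) (⟨v, hv⟩ * ⟨u, hu⟩ : L) := by
    have h1 := pw.subgroupOf lw
    have e : (⟨u * v, lw pw.mem⟩ : L) = ⟨v, hv⟩ * ⟨u, hu⟩ := Subtype.ext hcomm
    rwa [e] at h1
  have h8 := third_uniq hT hM hOL hcl (pu.subgroupOf lu) (key su lu) hz hne t1 t2 pw' (key sw lw) h7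
  rw [h8]
  exact h7

section Glue

variable {C Hk X : Type u} [Group C] [Group Hk] [Group X]

theorem isPGroup_center_map {f : Hk →* X} (hf : Function.Injective f) {D : Subgroup Hk} (h : IsPGroup 2 ↥(center ↥D)) :
    IsPGroup 2 ↥(center ↥(D.map f)) :=
  h.of_equiv (centerCongr (D.equivMapOfInjective f hf))

theorem comp_map {f : Hk →* X} (hf : Function.Injective f) {u : X} (hr : f.range = centralizer ({u} : Set X))
    {D : Subgroup Hk} (hD : IsComponent D) : D3.Comp u (D.map f) := by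
  have h1 : Sn D ⊤ := Sn.of_isSubnormal hD.1 le_top
  have h2 := h1.map f
  rw [← MonoidHom.range_eq_map, hr] at h2
  refine ⟨h2.1, h2.2, ?_⟩
  exact Components.isQuasisimple_of_mulEquiv
    ((D.equivMapOfInjective f hf).trans (subgroupOfEquivOfLe h2.1).symm) hD.2

theorem range_comp {g : C →* Hk} {f : Hk →* X} (hf : Function.Injective f) {u : X} {x : Hk}
    (hr : f.range = centralizer ({u} : Set X)) (hg : g.range = centralizer ({x} : Set Hk)) :
    (f.comp g).range = centralizer ({u} : Set X) ⊓ centralizer ({f x} : Set X) := by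
  ext w
  constructor
  · rintro ⟨c, rfl⟩
    refine ⟨?_, ?_⟩
    · rw [← hr]; exact ⟨g c, rfl⟩
    · have h1 : g c ∈ centralizer ({x} : Set Hk) := by rw [← hg]; exact ⟨c, rfl⟩
      rw [mem_centralizer_singleton_iff] at h1
      refine mem_centralizer_singleton_iff.2 ?_
      show f (g c) * f x = f x * f (g c)
      rw [← map_mul, h1, map_mul]
  · rintro ⟨h1, h2⟩
    rw [← hr] at h1
    obtain ⟨a, rfl⟩ := h1
    have h3 : a ∈ centralizer ({x} : Set Hk) := by
      rw [mem_centralizer_singleton_iff]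
      apply hf
      rw [map_mul, map_mul]
      exact mem_centralizer_singleton_iff.1 h2
    rw [← hg] at h3
    obtain ⟨c, rfl⟩ := h3
    exact ⟨c, rfl⟩

variable {Hl : Type u} [Group Hl] [Finite X] [Finite C]

/-- **part 2 of THEOREM X(3)** -/
theorem glue_false (hT : TStmt.{u}) (hB : F23b S7) (hM : AutM3 S7) (hSol : Sol3 S7) (gk : C →* Hk) (gl : C →* Hl)
    (ik : Hk →* X) (il : Hl →* X) (hik : Function.Injective ik) (hil : Function.Injective il)
    (hgk : Function.Injective gk) (hc : ik.comp gk = il.comp gl) {yk yl : C} (hne : yk ≠ yl)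
    {Jk Jl T : Subgroup C} (pk : IsPr Jk yk) (pl : IsPr Jl yl) (pT : IsPr T (yk * yl)) (sk : Jk.IsSubnormal)
    (sl : Jl.IsSubnormal) (sT : T.IsSubnormal) (cm : ∀ a ∈ Jk, ∀ b ∈ Jl, a * b = b * a)
    (rgk : gk.range = centralizer ({gk yk} : Set Hk))
    (rk : ik.range = centralizer ({ik (gk yl)} : Set X)) (rl : il.range = centralizer ({il (gl yk)} : Set X))
    {Dk : Subgroup Hk} {Dl : Subgroup Hl} (dk : IsComponent Dk) (dl : IsComponent Dl)
    (zk : IsPGroup 2 ↥(center ↥Dk)) (zl : IsPGroup 2 ↥(center ↥Dl)) (k1 : Jk.map gk ≤ Dk) (k2 : Jl.map gk ≤ Dk)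
    (k3 : T.map gk ≤ Dk) (l1 : Jk.map gl ≤ Dl) (l2 : Jl.map gl ≤ Dl) (l3 : T.map gl ≤ Dl) : False := by
  set e := ik.comp gk with he
  have hei : Function.Injective e := hik.comp hgk
  set u := e yl with hu
  set v := e yk with hv
  have huv : u ≠ v := fun h => hne (hei h).symm
  have hv' : il (gl yk) = v := by
    show (il.comp gl) yk = v
    rw [← hc]
  have hr : e.range = centralizer ({u} : Set X) ⊓ centralizer ({v} : Set X) := range_comp hik rk rgk
  have pr : ∀ {S : Subgroup C} {z : C}, IsPr S z → IsPr (S.map e) (e z) := by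
    intro S z hS
    refine hS.map e ?_
    intro h1
    have h2 : z = 1 := hei (by rw [h1, map_one])
    have h3 := hS.ord
    rw [h2, orderOf_one] at h3
    exact absurd h3 (by norm_num)
  have sn : ∀ {S : Subgroup C}, S.IsSubnormal → Sn (S.map e) (centralizer ({u} : Set X) ⊓ centralizer ({v} : Set X)) := by
    intro S hS
    have h1 : Sn S ⊤ := Sn.of_isSubnormal hS le_top
    have h2 := h1.map e
    rwa [← MonoidHom.range_eq_map, hr] at h2
  have le1 : ∀ {S : Subgroup C}, S.map gk ≤ Dk → S.map e ≤ Dk.map ik := by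
    intro S hS
    rw [he, ← Subgroup.map_map]
    exact Subgroup.map_mono hS
  have le2 : ∀ {S : Subgroup C}, S.map gl ≤ Dl → S.map e ≤ Dl.map il := by
    intro S hS
    rw [hc, ← Subgroup.map_map]
    exact Subgroup.map_mono hS
  have Cu : D3.Comp u (Dk.map ik) := comp_map hik rk dk
  have Cv : D3.Comp v (Dl.map il) := comp_map hil (by rw [rl, hv']) dl
  have cmuv : ∀ a ∈ Jl.map e, ∀ b ∈ Jk.map e, a * b = b * a := by
    rintro _ ⟨a, ha, rfl⟩ _ ⟨b, hb, rfl⟩
    rw [← map_mul, ← map_mul, cm b hb a ha]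
  have pT1 : IsPr (T.map e) (v * u) := by
    have h1 := pr pT
    rwa [map_mul] at h1
  have huvc : u * v = v * u := cmuv u (pr pl).mem v (pr pk).mem
  have pT2 : IsPr (T.map e) (u * v) := by rw [huvc]; exact pT1
  refine hSol X u v (Dk.map ik) (Dl.map il) (Jl.map e) (Jk.map e) (T.map e) (pr pl).ord (pr pk).ord huv huvc Cu Cv
    (pr pl).mem (pr pk).mem pT2.mem (pr pl).iso (pr pk).iso (le1 k2) (le1 k1) (le1 k3) (le2 l2) (le2 l1) (le2 l3)
    (fun h1 h2 => ?_) (fun h1 h2 => ?_)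
  · exact side hT hB hM Cu (isPGroup_center_map hik zk) (pr pl) (pr pk) pT2 (sn sl) (sn sk) (sn sT) (le1 k2) (le1 k1)
      (le1 k3) huv cmuv h1 h2
  · have sn' : ∀ {S : Subgroup C}, S.IsSubnormal →
        Sn (S.map e) (centralizer ({v} : Set X) ⊓ centralizer ({u} : Set X)) := by
      intro S hS
      rw [inf_comm]
      exact sn hS
    exact side hT hB hM Cv (isPGroup_center_map hil zl) (pr pk) (pr pl) pT1 (sn' sk) (sn' sl) (sn' sT) (le2 l1) (le2 l2)
      (le2 l3) huv.symm (fun a ha b hb => (cmuv b hb a ha).symm) h2 h1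

end Glue

end Cfsg.Agent.OddHalf.NI3

end

-- merged: Cfsg.Agent.OddHalf.NI3.SetUp
section

/-!
# THEOREM X(3), part 3: the set-up

`Su CA P y J` : the involutions `y k ∈ J k ≅ SL₂(3)`, `J k O(CA)` subnormal in `CA = C(y k) ⊓ P k`; then
`CA / O(CA)` and the groups `P k / O(P k)` form an amalgam (`Su.am`), and this is impossible (`Su.false`).
-/

set_option autoImplicit false
set_option linter.style.haveILetI false
set_option linter.unusedSectionVars false

namespace Cfsg.Agent.OddHalf.NI3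

open Subgroup Cfsg Cfsg.Agent.Cit Cfsg.Agent.Cit.SolvTwo Cfsg.Agent.SignalizersComponents
open Cfsg.Agent.OddHalf.D3 (FT)

universe u

variable {G : Type u} [Group G]

/-! ### Quotients of subgroups -/

theorem qmap_injective {A B : Type*} [Group A] [Group B] {N : Subgroup A} [N.Normal] {N' : Subgroup B} [N'.Normal]
    (φ : A →* B) (h : N = N'.comap φ) : Function.Injective (QuotientGroup.map N N' φ h.le) := by
  rw [injective_iff_map_eq_one]
  intro a ha
  obtain ⟨x, rfl⟩ := QuotientGroup.mk'_surjective N a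
  have h1 : (QuotientGroup.mk' N') (φ x) = 1 := ha
  have h2 : φ x ∈ N' := (QuotientGroup.eq_one_iff _).1 h1
  exact (QuotientGroup.eq_one_iff _).2 (by rw [h]; exact h2)

theorem qmap_range [Finite G] {A B : Subgroup G} (hAB : A ≤ B) {N : Subgroup ↥A} [N.Normal] {N' : Subgroup ↥B}
    [N'.Normal] (h : N ≤ N'.comap (inclusion hAB)) {z : G} (hzB : z ∈ B) (hz : z * z = 1)
    (hA : A = B ⊓ centralizer ({z} : Set G)) (ho : ¬ 2 ∣ Nat.card N') :
    (QuotientGroup.map N N' (inclusion hAB) h).range =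
      centralizer ({QuotientGroup.mk' N' ⟨z, hzB⟩} : Set (↥B ⧸ N')) := by
  rw [← centralizer_map (QuotientGroup.mk'_surjective N') (by rwa [QuotientGroup.ker_mk'])
    (z := (⟨z, hzB⟩ : B)) (Subtype.ext hz)]
  ext w
  constructor
  · rintro ⟨a, rfl⟩
    obtain ⟨a, rfl⟩ := QuotientGroup.mk'_surjective N a
    refine ⟨inclusion hAB a, ?_, rfl⟩
    have h1 : (a : G) ∈ B ⊓ centralizer ({z} : Set G) := by rw [← hA]; exact a.2
    refine mem_centralizer_singleton_iff.2 (Subtype.ext ?_)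
    exact mem_centralizer_singleton_iff.1 h1.2
  · rintro ⟨b, hb, rfl⟩
    have h1 : (b : G) ∈ A := by
      rw [hA]
      refine ⟨b.2, mem_centralizer_singleton_iff.2 ?_⟩
      exact congrArg Subtype.val (mem_centralizer_singleton_iff.1 hb)
    exact ⟨QuotientGroup.mk' N ⟨b, h1⟩, rfl⟩

theorem OO_subgroupOf (B : Subgroup G) : (OO B).subgroupOf B = pPrimeCore 2 ↥B := by
  rw [OO, subgroupOf, comap_map_eq_self_of_injective B.subtype_injective]

/-- `O(A) = A ∩ O(B)` -/
theorem core_comap [Finite G] {A B : Subgroup G} (hAB : A ≤ B) (h : OO A ≤ OO B) :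
    pPrimeCore 2 ↥A = (pPrimeCore 2 ↥B).comap (inclusion hAB) := by
  apply le_antisymm
  · intro a ha
    have h1 : (a : G) ∈ OO B := h ⟨a, ha, rfl⟩
    rw [← OO_subgroupOf B]
    exact h1
  · refine Lib.Cores.le_pPrimeCore inferInstance ?_
    rw [Nat.coprime_comm]
    refine (Nat.Prime.coprime_iff_not_dvd Nat.prime_two).2 fun h2 => not_two_dvd_oddCore ↥B ?_
    refine h2.trans ?_
    refine Subgroup.card_comap_dvd_of_injective _ _ ?_
    exact inclusion_injective hAB

/-- an involution whose image lies in a component of `X / O(X)` centralises `O(X)`, if `L_{2'}(X) = E(X)` -/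
theorem cent_core {X : Type*} [Group X] [Finite X] (hFT : FT X) (hX : pLayer 2 X = layer X)
    {D : Subgroup (X ⧸ pPrimeCore 2 X)} (hD : IsComponent D) {x : X} (hx : x * x = 1)
    (hxD : QuotientGroup.mk' (pPrimeCore 2 X) x ∈ D) {o : X} (ho : o ∈ pPrimeCore 2 X) : x * o = o * x := by
  haveI : Fact (Nat.Prime 2) := ⟨Nat.prime_two⟩
  have hn : (pPrimeCore 2 X).Normal := Lib.Cores.pPrimeCore_normal 2
  have hodd : ¬ 2 ∣ Nat.card (pPrimeCore 2 X) := Cit.not_two_dvd_oddCore X
  obtain ⟨K, hK, hKD⟩ := PConstrained.exists_isPComponent_map_eq 2 hD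
  have h1 : K ≤ layer X := by rw [← hX]; exact le_sSup hK
  have h4 : layer X ≤ centralizer (pPrimeCore 2 X : Set X) := by
    rw [Components.layer_le_iff]
    intro L hL
    rw [← commutator_eq_bot_iff_le_centralizer]
    rcases Components.component_le_or_commutator_eq_bot_of_le_normalizer hL
      (H := pPrimeCore 2 X) (by rw [normalizer_eq_top_iff.mpr hn]; exact le_top) with h | h
    · exfalso
      exact hodd ((hFT.even hL.2).trans (Subgroup.card_dvd_of_le h))
    · exact h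
  have h5 : ∀ k ∈ K, ∀ a ∈ pPrimeCore 2 X, k * a = a * k := fun k hk a ha =>
    (mem_centralizer_iff.1 (h4 (h1 hk)) a ha).symm
  rw [← hKD] at hxD
  obtain ⟨k, hk, hkx⟩ := hxD
  have h6 : k⁻¹ * x ∈ pPrimeCore 2 X := QuotientGroup.eq.1 hkx
  set a := k⁻¹ * x with ha
  have hxa : x = k * a := by rw [ha]; group
  obtain ⟨n, hn2⟩ := Cit.odd_orderOf hodd h6
  have hcom : Commute k a := h5 k hk a h6
  have h7 : x ^ (orderOf a) = x := by
    rw [hn2, pow_add, pow_mul, pow_two, hx, one_pow, one_mul, pow_one]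
  have h8 : x = k ^ (orderOf a) := by
    rw [← h7]
    conv_lhs => rw [hxa]
    rw [hcom.mul_pow, pow_orderOf_eq_one, mul_one]
  rw [h8]
  exact h5 _ (pow_mem hk _) o ho

/-! ### The set-up -/

/-- The set-up. -/
structure Su {ι : Type} (CA : Subgroup G) (P : ι → Subgroup G) (y : ι → G) (J : ι → Subgroup G) : Prop where
  inf : ∀ k, CA = P k ⊓ centralizer ({y k} : Set G)
  pr : ∀ k, IsPr (J k) (y k)
  le : ∀ k, J k ≤ CA
  sn : ∀ k, Sn (J k ⊔ OO CA) CA
  cen : ∀ i k, i ≠ k → P k ≤ centralizer ({y i} : Set G)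
  yinj : Function.Injective y
  three : ∀ a b c, a ≠ b → a ≠ c → b ≠ c → y a * y b ≠ y c
  min : ∀ k, ∃ i, i ≠ k ∧ ¬ Sn (J i ⊔ OO (P k)) (P k)

namespace Su

variable {ι : Type} {CA : Subgroup G} {P : ι → Subgroup G} {y : ι → G} {J : ι → Subgroup G} (h : Su CA P y J)

include h

theorem leP (k : ι) : CA ≤ P k := by rw [h.inf k]; exact inf_le_left

theorem mem (i : ι) : y i ∈ CA := h.le i (h.pr i).mem

theorem memP (i k : ι) : y i ∈ P k := h.leP k (h.mem i)

theorem sq (i : ι) : y i * y i = 1 := (h.pr i).t3.z_sq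

theorem comm (i : ι) {c : G} (hc : c ∈ CA) : c * y i = y i * c := by
  rw [h.inf i] at hc
  exact mem_centralizer_singleton_iff.1 hc.2

variable [Finite G]

/-- the image of `J i` in `P k / O(P k)` -/
theorem pr_f (i k : ι) : IsPr (((J i).subgroupOf (P k)).map (QuotientGroup.mk' (pPrimeCore 2 ↥(P k))))
    (QuotientGroup.mk' (pPrimeCore 2 ↥(P k)) ⟨y i, h.memP i k⟩) := by
  refine ((h.pr i).subgroupOf ((h.le i).trans (h.leP k))).map _ ?_
  intro h1
  have h2 : (⟨y i, h.memP i k⟩ : P k) ∈ pPrimeCore 2 ↥(P k) := (QuotientGroup.eq_one_iff _).1 h1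
  have h3 := Cit.eq_one_of_odd (not_two_dvd_oddCore ↥(P k)) h2 (a := 1) (Subtype.ext (by
    rw [pow_one, pow_two]; exact h.sq i))
  have h4 : y i = 1 := congrArg Subtype.val h3
  have h5 := (h.pr i).ord
  rw [h4, orderOf_one] at h5
  exact absurd h5 (by norm_num)

theorem cent_f (k : ι) : (CA.subgroupOf (P k)).map (QuotientGroup.mk' (pPrimeCore 2 ↥(P k))) =
    centralizer ({QuotientGroup.mk' (pPrimeCore 2 ↥(P k)) ⟨y k, h.memP k k⟩} : Set _) := by
  rw [← centralizer_map (QuotientGroup.mk'_surjective _) (by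
    rw [QuotientGroup.ker_mk']; exact not_two_dvd_oddCore ↥(P k)) (z := (⟨y k, h.memP k k⟩ : P k))
    (Subtype.ext (h.sq k)), ← centralizer_subgroupOf]
  congr 1
  ext w
  rw [mem_subgroupOf, mem_subgroupOf, h.inf k]
  exact ⟨fun h => h.2, fun h => ⟨w.2, h⟩⟩

/-- `O(CA) ≤ O(P k)` -/
theorem core_le (hT : TStmt.{u}) (k : ι) : OO CA ≤ OO (P k) := by
  set f := QuotientGroup.mk' (pPrimeCore 2 ↥(P k)) with hf
  set x := f ⟨y k, h.memP k k⟩ with hx
  set C := centralizer ({x} : Set (↥(P k) ⧸ pPrimeCore 2 ↥(P k))) with hC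
  have hCf : (CA.subgroupOf (P k)).map f = C := h.cent_f k
  have hlk : J k ≤ P k := (h.le k).trans (h.leP k)
  have hol : OO CA ≤ P k := (OO_le _).trans (h.leP k)
  -- the image of `O(CA)`
  have hN : ((OO CA).subgroupOf (P k)).map f ≤ OO C := by
    refine le_OO ?_ ?_ ?_
    · rw [← hCf]
      exact Subgroup.map_mono (fun w hw => OO_le CA (mem_subgroupOf.1 hw))
    · rw [← hCf]
      refine (Subgroup.map_mono ?_).trans (le_normalizer_map _)
      intro w hw
      rw [mem_normalizer_iff]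
      intro v
      exact mem_normalizer_iff.1 (le_normalizer_OO CA hw) v
    · intro h2
      apply odd_OO CA
      refine h2.trans ((Subgroup.card_map_dvd _ _).trans ?_)
      rw [Nat.card_congr (subgroupOfEquivOfLe hol).toEquiv]
  have hs : Sn (((J k).subgroupOf (P k)).map f ⊔ OO C) C := by
    have h1 := ((h.sn k).comap (P k).subtype).map f
    have h2 : (CA.comap (P k).subtype).map f = C := hCf
    rw [h2] at h1
    have h3 := Sn.sup_normal h1 (OO_le C) (le_normalizer_OO C)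
    have h4 : (J k ⊔ OO CA).comap (P k).subtype = (J k).subgroupOf (P k) ⊔ (OO CA).subgroupOf (P k) :=
      subgroupOf_sup hlk hol
    rw [h4, Subgroup.map_sup, sup_assoc, sup_eq_right.2 hN] at h3
    exact h3
  have h5 := core_mod hT (h.pr_f k k) hs
  rw [Lib.Cores.pPrimeCore_quotient_pPrimeCore, le_bot_iff] at h5
  have h6 : OO C = ⊥ := h5
  rw [h6, le_bot_iff, Subgroup.map_eq_bot_iff, hf, QuotientGroup.ker_mk', ← OO_subgroupOf] at hN
  intro a ha
  have h7 : (⟨a, hol ha⟩ : P k) ∈ (OO CA).subgroupOf (P k) := ha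
  exact hN h7

theorem core_eq (hT : TStmt.{u}) (k : ι) :
    pPrimeCore 2 ↥CA = (pPrimeCore 2 ↥(P k)).comap (inclusion (h.leP k)) :=
  core_comap (h.leP k) (h.core_le hT k)

/-- the embedding of `CA / O(CA)` -/
noncomputable def g (hT : TStmt.{u}) (k : ι) : (↥CA ⧸ pPrimeCore 2 ↥CA) →* (↥(P k) ⧸ pPrimeCore 2 ↥(P k)) :=
  QuotientGroup.map (pPrimeCore 2 ↥CA) (pPrimeCore 2 ↥(P k)) (inclusion (h.leP k)) (h.core_eq hT k).le

/-- the involutions of `CA / O(CA)` -/
def yq (i : ι) : ↥CA ⧸ pPrimeCore 2 ↥CA := QuotientGroup.mk' (pPrimeCore 2 ↥CA) ⟨y i, h.mem i⟩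

/-- the images in `CA / O(CA)` -/
def Jq (_ : Su CA P y J) (i : ι) : Subgroup (↥CA ⧸ pPrimeCore 2 ↥CA) :=
  ((J i).subgroupOf CA).map (QuotientGroup.mk' (pPrimeCore 2 ↥CA))

theorem g_yq (hT : TStmt.{u}) (i k : ι) :
    h.g hT k (h.yq i) = QuotientGroup.mk' (pPrimeCore 2 ↥(P k)) ⟨y i, h.memP i k⟩ := rfl

theorem map_Jq (hT : TStmt.{u}) (i k : ι) : (h.Jq i).map (h.g hT k) =
    ((J i).subgroupOf (P k)).map (QuotientGroup.mk' (pPrimeCore 2 ↥(P k))) := by
  have h1 : (h.g hT k).comp (QuotientGroup.mk' (pPrimeCore 2 ↥CA)) =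
      (QuotientGroup.mk' (pPrimeCore 2 ↥(P k))).comp (inclusion (h.leP k)) := rfl
  rw [Jq, Subgroup.map_map, h1, ← Subgroup.map_map]
  congr 1
  ext w
  constructor
  · rintro ⟨v, hv, rfl⟩
    exact hv
  · intro hw
    exact ⟨⟨w, h.le i hw⟩, hw, rfl⟩

/-- an element of order 2 in `CA` whose image is trivial -/
theorem eq_one_of (a : ↥CA) (ha : a * a = 1) (h1 : QuotientGroup.mk' (pPrimeCore 2 ↥CA) a = 1) : a = 1 := by
  refine Cit.eq_one_of_odd (not_two_dvd_oddCore ↥CA) ((QuotientGroup.eq_one_iff _).1 h1) (a := 1) ?_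
  rw [pow_one, pow_two, ha]

/-- **the amalgam** -/
theorem am (hT : TStmt.{u}) :
    Am (fun k => ↥(P k) ⧸ pPrimeCore 2 ↥(P k)) (h.g hT) h.yq h.Jq where
  inj k := qmap_injective _ (h.core_eq hT k)
  rng k := qmap_range (h.leP k) _ (h.memP k k) (h.sq k) (h.inf k) (not_two_dvd_oddCore ↥(P k))
  pr k := by
    refine ((h.pr k).subgroupOf (h.le k)).map _ fun h1 => ?_
    have h2 := h.eq_one_of ⟨y k, h.mem k⟩ (Subtype.ext (h.sq k)) h1
    have h3 : y k = 1 := congrArg Subtype.val h2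
    have h5 := (h.pr k).ord
    rw [h3, orderOf_one] at h5
    exact absurd h5 (by norm_num)
  sn k := by
    have h1 := (h.sn k).2.map (QuotientGroup.mk'_surjective (pPrimeCore 2 ↥CA))
    rw [subgroupOf_sup (h.le k) (OO_le CA), OO_subgroupOf, Subgroup.map_sup] at h1
    have h2 : (pPrimeCore 2 ↥CA).map (QuotientGroup.mk' (pPrimeCore 2 ↥CA)) = ⊥ := by
      rw [Subgroup.map_eq_bot_iff, QuotientGroup.ker_mk']
    rw [h2, sup_bot_eq] at h1
    exact h1
  yc k c := by
    obtain ⟨c, rfl⟩ := QuotientGroup.mk'_surjective _ c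
    rw [yq, ← map_mul, ← map_mul]
    congr 1
    exact Subtype.ext (h.comm k c.2)
  cen i k hik := by
    rw [mem_center_iff]
    intro c
    obtain ⟨c, rfl⟩ := QuotientGroup.mk'_surjective _ c
    rw [h.g_yq, ← map_mul, ← map_mul]
    congr 1
    exact Subtype.ext (mem_centralizer_singleton_iff.1 (h.cen i k hik c.2))
  O1 := Lib.Cores.pPrimeCore_quotient_pPrimeCore 2
  OH k := Lib.Cores.pPrimeCore_quotient_pPrimeCore 2
  yinj := by
    intro i j hij
    apply h.yinj
    have h1 : QuotientGroup.mk' (pPrimeCore 2 ↥CA) (⟨y i, h.mem i⟩ * ⟨y j, h.mem j⟩) = 1 := by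
      have h2 : QuotientGroup.mk' (pPrimeCore 2 ↥CA) ⟨y i, h.mem i⟩ = QuotientGroup.mk' (pPrimeCore 2 ↥CA) ⟨y j, h.mem j⟩ := hij
      rw [map_mul, h2, ← map_mul]
      rw [show (⟨y j, h.mem j⟩ * ⟨y j, h.mem j⟩ : CA) = 1 from Subtype.ext (h.sq j), map_one]
    have h2 := h.eq_one_of _ (by
      apply Subtype.ext
      show (y i * y j) * (y i * y j) = 1
      calc (y i * y j) * (y i * y j) = (y i * y j) * y i * y j := by group
        _ = y i * (y i * y j) * y j := by rw [h.comm i (mul_mem (h.mem i) (h.mem j))]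
        _ = (y i * y i) * (y j * y j) := by group
        _ = 1 := by rw [h.sq, h.sq, one_mul]) h1
    have h3 : y i * y j = 1 := congrArg Subtype.val h2
    rw [← mul_left_inj (y j), h3, h.sq j]
  three a b c hab hac hbc e := by
    apply h.three a b c hab hac hbc
    have h1 : QuotientGroup.mk' (pPrimeCore 2 ↥CA) (⟨y a, h.mem a⟩ * ⟨y b, h.mem b⟩ * ⟨y c, h.mem c⟩) = 1 := by
      have h2 : QuotientGroup.mk' (pPrimeCore 2 ↥CA) (⟨y a, h.mem a⟩ * ⟨y b, h.mem b⟩) =
        QuotientGroup.mk' (pPrimeCore 2 ↥CA) ⟨y c, h.mem c⟩ := e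
      rw [map_mul, h2, ← map_mul]
      rw [show (⟨y c, h.mem c⟩ * ⟨y c, h.mem c⟩ : CA) = 1 from Subtype.ext (h.sq c), map_one]
    have h2 := h.eq_one_of _ (by
      apply Subtype.ext
      show (y a * y b * y c) * (y a * y b * y c) = 1
      calc (y a * y b * y c) * (y a * y b * y c) = (y a * y b * y c) * y a * (y b * y c) := by group
        _ = y a * (y a * y b * y c) * (y b * y c) := by
          rw [h.comm a (mul_mem (mul_mem (h.mem a) (h.mem b)) (h.mem c))]
        _ = (y a * y a) * ((y b * y c) * y b) * y c := by group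
        _ = (y a * y a) * (y b * (y b * y c)) * y c := by rw [h.comm b (mul_mem (h.mem b) (h.mem c))]
        _ = (y a * y a) * (y b * y b) * (y c * y c) := by group
        _ = 1 := by rw [h.sq, h.sq, h.sq, one_mul, one_mul]) h1
    have h3 : y a * y b * y c = 1 := congrArg Subtype.val h2
    rw [← mul_left_inj (y c), h3, h.sq c]
  min k := by
    obtain ⟨i, hik, hns⟩ := h.min k
    refine ⟨i, hik, fun hs => hns ?_⟩
    have hle : J i ≤ P k := (h.le i).trans (h.leP k)
    have h1 : (((h.Jq i).map (h.g hT k)).comap (QuotientGroup.mk' (pPrimeCore 2 ↥(P k)))).IsSubnormal := hs.comap _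
    rw [h.map_Jq hT i k, comap_map_eq, QuotientGroup.ker_mk', ← OO_subgroupOf, ← subgroupOf_sup hle (OO_le _)] at h1
    exact ⟨sup_le hle (OO_le _), h1⟩

end Su

end Cfsg.Agent.OddHalf.NI3

end

-- merged: Cfsg.Agent.OddHalf.NI3.ThmX
section

/-!
# THEOREM X(3)

`noFam3` : `Ctx G → NoFam3 G` from `F23a`, `F23b S7`, `AutM3 S7`, `Sol3 S7`.
-/

set_option autoImplicit false
set_option linter.style.haveILetI false
set_option linter.unusedSectionVars false

namespace Cfsg.Agent.OddHalf.NI3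

open Subgroup Cfsg Cfsg.Agent.Cit Cfsg.Agent.Cit.SolvTwo Cfsg.Agent.SignalizersComponents
open Cfsg.Agent.OddHalf.D3 (FT BL)
open Cfsg.Agent.OddHalf.NI (BLH EA blw)

universe u

variable {G : Type u} [Group G]
variable {S7 : ∀ (N : Type u) [Group N], N → N → Subgroup N → Subgroup N → Subgroup N → Prop}

namespace Su

variable {ι : Type} {CA : Subgroup G} {P : ι → Subgroup G} {y : ι → G} {J : ι → Subgroup G} (h : Su CA P y J)
  [Finite G]

include h

/-- `O(P k) = O(CA)` -/
theorem core_eq_of_comp (hT : TStmt.{u}) (hFT : FT G) {k : ι} (hBL : BLH (P k))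
    (hD : IsComponent (Am.DD (h.g hT) h.Jq k)) (hJ : (h.Jq k).map (h.g hT k) ≤ Am.DD (h.g hT) h.Jq k) :
    OO (P k) = OO CA := by
  refine le_antisymm ?_ (h.core_le hT k)
  have h1 : QuotientGroup.mk' (pPrimeCore 2 ↥(P k)) ⟨y k, h.memP k k⟩ ∈ Am.DD (h.g hT) h.Jq k := by
    apply hJ
    rw [h.map_Jq hT k k]
    exact (h.pr_f k k).mem
  have h2 : OO (P k) ≤ CA := by
    rw [h.inf k]
    refine le_inf (OO_le _) ?_
    rintro _ ⟨o, ho, rfl⟩
    have h3 := cent_core (NI.FT.sub hFT (P k)) hBL hD (x := (⟨y k, h.memP k k⟩ : P k)) (Subtype.ext (h.sq k)) h1 ho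
    exact mem_centralizer_singleton_iff.2 (congrArg Subtype.val h3).symm
  exact le_OO h2 ((h.leP k).trans (le_normalizer_OO _)) (odd_OO _)

/-- **the set-up is impossible** -/
theorem false_of [Nonempty ι] (hT : TStmt.{u}) (hA : F23a.{u}) (hB : F23b S7) (hM : AutM3 S7) (hSol : Sol3 S7)
    (hFT : FT G) (hBL : ∀ k, BLH (P k)) (XX : ι → ι → Subgroup G)
    (hX : ∀ k l, k ≠ l → P k = XX k l ⊓ centralizer ({y l} : Set G) ∧ P l = XX k l ⊓ centralizer ({y k} : Set G)) :
    False := by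
  obtain ⟨k, l, hkl, T, t1, t2, ⟨c1, c2, c3, c4, c5⟩, ⟨d1, d2, d3, d4, d5⟩⟩ := (h.am hT).main hT hA hB hM
  have Ok : OO (P k) = OO CA := h.core_eq_of_comp hT hFT (hBL k) c1 c3
  have Ol : OO (P l) = OO CA := h.core_eq_of_comp hT hFT (hBL l) d1 d3
  obtain ⟨hXk, hXl⟩ := hX k l hkl
  set X := XX k l with hXdef
  set O := OO CA with hO
  set M := X ⊓ normalizer (O : Set G) with hMdef
  have hPk : P k ≤ M := by
    refine le_inf (by rw [hXk]; exact inf_le_left) ?_
    rw [← Ok]; exact le_normalizer_OO _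
  have hPl : P l ≤ M := by
    refine le_inf (by rw [hXl]; exact inf_le_left) ?_
    rw [← Ol]; exact le_normalizer_OO _
  have hOM : O ≤ M := by rw [← Ok]; exact (OO_le _).trans hPk
  haveI hn : (O.subgroupOf M).Normal := (normal_subgroupOf_iff_le_normalizer hOM).2 inf_le_right
  have hodd : ¬ 2 ∣ Nat.card (O.subgroupOf M) := by
    rw [Nat.card_congr (subgroupOfEquivOfLe hOM).toEquiv]
    exact odd_OO _
  have ek : pPrimeCore 2 ↥(P k) = (O.subgroupOf M).comap (inclusion hPk) := by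
    rw [← OO_subgroupOf, Ok]; rfl
  have el : pPrimeCore 2 ↥(P l) = (O.subgroupOf M).comap (inclusion hPl) := by
    rw [← OO_subgroupOf, Ol]; rfl
  have hyk : y k ∈ M := hPk (h.memP k k)
  have hyl : y l ∈ M := hPk (h.memP l k)
  have fk : P k = M ⊓ centralizer ({y l} : Set G) := by
    apply le_antisymm
    · refine le_inf hPk ?_
      conv_lhs => rw [hXk]
      exact inf_le_right
    · conv_rhs => rw [hXk]
      exact inf_le_inf_right _ inf_le_left
  have fl : P l = M ⊓ centralizer ({y k} : Set G) := by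
    apply le_antisymm
    · refine le_inf hPl ?_
      conv_lhs => rw [hXl]
      exact inf_le_right
    · conv_rhs => rw [hXl]
      exact inf_le_inf_right _ inf_le_left
  have hAm := h.am hT
  refine glue_false hT hB hM hSol (h.g hT k) (h.g hT l)
    (QuotientGroup.map (pPrimeCore 2 ↥(P k)) (O.subgroupOf M) (inclusion hPk) ek.le)
    (QuotientGroup.map (pPrimeCore 2 ↥(P l)) (O.subgroupOf M) (inclusion hPl) el.le)
    (qmap_injective _ ek) (qmap_injective _ el) (hAm.inj k) ?_ (fun e => hkl (hAm.yinj e)) (hAm.pr k) (hAm.pr l) t2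
    (hAm.sn k) (hAm.sn l) t1 (hAm.cm hkl) (hAm.rng k) ?_ ?_ c1 d1 c2 d2 c3 c4 c5 d4 d3 d5
  · apply QuotientGroup.monoidHom_ext
    rfl
  · exact qmap_range hPk ek.le hyl (h.sq l) fk hodd
  · exact qmap_range hPl el.le hyk (h.sq k) fl hodd

end Su

/-- **THEOREM X(3)** -/
theorem noFam3 (hT : TStmt.{u}) (hA : F23a.{u}) (hB : F23b S7) (hM : AutM3 S7) (hSol : Sol3 S7)
    (hft : ∀ (X : Type u) [Group X] [Finite X], Odd (Nat.card X) → Group.IsSolvable X) :
    ∀ (G : Type u) [Group G], Iface.Ctx G → NoFam3 G := by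
  intro G _ C m J y pos hJ hy ho hle hsn hinj h3
  classical
  have := C.fin
  have hFT : FT G := fun H hH => hft H hH
  have hBL : BL G := by
    intro y hy
    have h0 : pPrimeCore 2 ↥(centralizer ({y} : Set G)) = ⊥ := by
      have h1 := C.bal y hy
      unfold centralizerPPrimeCore at h1
      rwa [Subgroup.map_eq_bot_iff_of_injective _ (Subgroup.subtype_injective _)] at h1
    exact NI.pLayer_eq_layer (fun K hK => hFT.even' hK.2)
      (fun J _ => by rw [h0, Subgroup.commutator_bot_right])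
  have pr : ∀ i, IsPr (J i) (y i) := fun i => ⟨hJ i, ho i, hy i⟩
  -- the centralizers
  let c : Finset (Fin m) → Subgroup G := fun A => centralizer (y '' (A : Set (Fin m)))
  have cmono : ∀ {A B : Finset (Fin m)}, A ⊆ B → c B ≤ c A := fun hAB =>
    centralizer_le (Set.image_mono (Finset.coe_subset.2 hAB))
  have cuniv : c Finset.univ = centralizer (Set.range y) := by
    show centralizer (y '' ((Finset.univ : Finset (Fin m)) : Set (Fin m))) = _
    rw [Finset.coe_univ, Set.image_univ]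
  have cle : ∀ i A, J i ≤ c A := fun i A => by
    refine (hle i).trans ?_
    rw [← cuniv]
    exact cmono (Finset.subset_univ A)
  have cerase : ∀ {A : Finset (Fin m)} {k}, k ∈ A → c A = c (A.erase k) ⊓ centralizer ({y k} : Set G) := by
    intro A k hk
    have h1 : y '' (A : Set (Fin m)) = insert (y k) (y '' ((A.erase k : Finset (Fin m)) : Set (Fin m))) := by
      rw [← Set.image_insert_eq, ← Finset.coe_insert, Finset.insert_erase hk]
    show centralizer (y '' (A : Set (Fin m))) = _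
    rw [h1]
    ext x
    simp only [mem_inf, mem_centralizer_iff, Set.mem_insert_iff, Set.mem_singleton_iff, forall_eq_or_imp,
      forall_eq, c]
    tauto
  have cmem : ∀ {A : Finset (Fin m)} {k}, k ∈ A → c A ≤ centralizer ({y k} : Set G) := by
    intro A k hk
    exact centralizer_le (Set.singleton_subset_iff.2 ⟨k, hk, rfl⟩)
  -- a minimal good set
  let good : Finset (Fin m) → Prop := fun A => A.Nonempty ∧ ∀ i ∈ A, Sn (J i ⊔ OO (c A)) (c A)
  have hgood : good Finset.univ := by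
    refine ⟨⟨⟨0, pos⟩, Finset.mem_univ _⟩, fun i _ => ?_⟩
    refine Sn.sup_normal ?_ (OO_le _) (le_normalizer_OO _)
    rw [cuniv]
    exact ⟨hle i, hsn i⟩
  obtain ⟨A, hAg, hAmin⟩ : ∃ A, good A ∧ ∀ B, B ⊂ A → ¬ good B := by
    have hex : ∃ n : ℕ, ∃ A, good A ∧ A.card = n := ⟨_, _, hgood, rfl⟩
    obtain ⟨A, hA1, hA2⟩ := Nat.find_spec hex
    refine ⟨A, hA1, fun B hBA hB => ?_⟩
    have h1 : B.card < A.card := Finset.card_lt_card hBA
    exact Nat.find_min hex (hA2 ▸ h1) ⟨B, hB, rfl⟩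
  -- `A` is not a singleton
  have hAe : ∀ k ∈ A, (A.erase k).Nonempty := by
    intro k hk
    by_contra hcon
    rw [Finset.not_nonempty_iff_eq_empty] at hcon
    have h1 : c A = centralizer ({y k} : Set G) := by
      rw [cerase hk, hcon]
      show centralizer (y '' ((∅ : Finset (Fin m)) : Set (Fin m))) ⊓ _ = _
      rw [Finset.coe_empty, Set.image_empty]
      have : centralizer (∅ : Set G) = ⊤ := by
        rw [eq_top_iff]; intro x _; rw [mem_centralizer_iff]; intro z hz; exact absurd hz (Set.notMem_empty z)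
      rw [this, top_inf_eq]
    have h2 := hAg.2 k hk
    rw [h1] at h2
    have h3 : OO (centralizer ({y k} : Set G)) = ⊥ := C.bal (y k) (ho k)
    rw [h3, sup_bot_eq] at h2
    refine C.classical (y k) (J k) (ho k) ⟨h2.1, hy k, h2.2⟩ (Or.inl ⟨ZMod 3, inferInstance, inferInstance, ?_, ?_⟩)
    · rw [ZMod.card]; decide
    · exact (pr k).quot
  have hcomm : ∀ i k, y i * y k = y k * y i := by
    intro i k
    have h1 := hle i (hy i)
    exact (mem_centralizer_iff.1 h1 (y k) ⟨k, rfl⟩).symm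
  have hsq : ∀ i, y i * y i = 1 := fun i => (pr i).t3.z_sq
  -- `L`-balance
  have hBLH : ∀ B : Finset (Fin m), B.Nonempty → BLH (c B) := by
    intro B hB
    have hcl : ∀ x ∈ closure (y '' (B : Set (Fin m))), ∀ z ∈ closure (y '' (B : Set (Fin m))), x * z = z * x := by
      intro x hx z hz
      have h1 := Subgroup.isMulCommutative_closure (k := y '' (B : Set (Fin m))) (by
        rintro _ ⟨i, -, rfl⟩ _ ⟨k, -, rfl⟩
        exact hcomm i k)
      exact congrArg Subtype.val (h1.is_comm.comm (⟨x, hx⟩ : closure (y '' (B : Set (Fin m)))) ⟨z, hz⟩)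
    have hEA : EA (closure (y '' (B : Set (Fin m)))) := by
      intro w hw
      induction hw using Subgroup.closure_induction with
      | mem z hz => obtain ⟨i, -, rfl⟩ := hz; exact hsq i
      | one => exact one_mul 1
      | mul u v hu hv ihu ihv =>
        calc u * v * (u * v) = u * (v * u) * v := by group
          _ = (u * u) * (v * v) := by rw [← hcl u hu v hv]; group
          _ = 1 := by rw [ihu, ihv, one_mul]
      | inv u _ ihu => rw [← mul_inv_rev, ihu, inv_one]
    have hne : closure (y '' (B : Set (Fin m))) ≠ ⊥ := by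
      obtain ⟨i, hi⟩ := hB
      intro e
      have h1 : y i = 1 := by
        rw [← Subgroup.mem_bot, ← e]
        exact Subgroup.subset_closure ⟨i, hi, rfl⟩
      have h2 := ho i
      rw [h1, orderOf_one] at h2
      exact absurd h2 (by norm_num)
    have h1 := blw hFT hBL (fun H => C.bprop ↥H) _ hEA hne
    rwa [Subgroup.centralizer_closure] at h1
  haveI : Nonempty ↥A := hAg.1.to_subtype
  have hSu : Su (ι := ↥A) (c A) (fun k => c (A.erase k)) (fun k => y k) (fun k => J k) := by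
    refine ⟨fun k => cerase k.2, fun k => pr k, fun k => cle k A, fun k => hAg.2 k k.2, ?_, ?_, ?_, ?_⟩
    · intro i k hik
      refine cmem (Finset.mem_erase.2 ⟨fun e => hik (Subtype.ext e), i.2⟩)
    · intro i k hik
      exact Subtype.ext (hinj hik)
    · intro a b d hab had hbd
      exact h3 a b d (fun e => hab (Subtype.ext e)) (fun e => had (Subtype.ext e)) (fun e => hbd (Subtype.ext e))
    · intro k
      by_contra hcon
      push Not at hcon
      refine hAmin (A.erase k) (Finset.erase_ssubset k.2) ⟨hAe k k.2, fun i hi => ?_⟩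
      rw [Finset.mem_erase] at hi
      exact hcon ⟨i, hi.2⟩ (fun e => hi.1 (congrArg Subtype.val e))
  refine hSu.false_of hT hA hB hM hSol hFT (fun k => hBLH _ (hAe k k.2)) (fun k l => c ((A.erase k).erase l)) ?_
  intro k l hkl
  have hkl' : (k : Fin m) ≠ l := fun e => hkl (Subtype.ext e)
  refine ⟨?_, ?_⟩
  · exact cerase (Finset.mem_erase.2 ⟨hkl'.symm, l.2⟩)
  · have h1 : (A.erase (k : Fin m)).erase (l : Fin m) = (A.erase (l : Fin m)).erase (k : Fin m) :=
      Finset.erase_right_comm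
    show c (A.erase (l : Fin m)) = c ((A.erase (k : Fin m)).erase (l : Fin m)) ⊓ _
    rw [h1]
    exact cerase (Finset.mem_erase.2 ⟨hkl', k.2⟩)

end Cfsg.Agent.OddHalf.NI3

end
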